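import Groth.Agent.AxDiv.Digits

/-!
Ax's theorem: `q ^ j` divides the number of zeros of a form of degree `d` in `N > jd` variables.
-/

universe u

open MvPolynomial

namespace Groth.Agent.AxDiv

theorem valuation_multinomial {ι : Type*} (p : ℕ) [hp : Fact p.Prime] (s : Finset ι) (κ : ι → ℕ) :
    (p - 1) * padicValNat p (Nat.multinomial s κ) + (p.digits (∑ i ∈ s, κ i)).sum = ∑ i ∈ s, (p.digits (κ i)).sum := by
  have key : ∀ n : ℕ, (p - 1) * padicValNat p n.factorial + (p.digits n).sum = n := fun n => by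
    rw [sub_one_mul_padicValNat_factorial, Nat.sub_add_cancel (Nat.digit_sum_le p n)]
  have h0 : Nat.multinomial s κ ≠ 0 := (Nat.multinomial_pos s κ).ne'
  have h1 : padicValNat p (∑ i ∈ s, κ i).factorial = (∑ i ∈ s, padicValNat p (κ i).factorial) + padicValNat p (Nat.multinomial s κ) := by
    rw [← Nat.multinomial_spec s κ, padicValNat.mul (Finset.prod_ne_zero_iff.2 fun i _ => (κ i).factorial_ne_zero) h0]
    congr 1
    classical
    induction s using Finset.induction_on with
    | empty => simp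
    | insert a t hat ih => rw [Finset.prod_insert hat, Finset.sum_insert hat,
        padicValNat.mul (κ a).factorial_ne_zero (Finset.prod_ne_zero_iff.2 fun i _ => (κ i).factorial_ne_zero),
        ih (Nat.multinomial_pos t κ).ne']
  have h2 : ∑ i ∈ s, ((p - 1) * padicValNat p (κ i).factorial + (p.digits (κ i)).sum) = ∑ i ∈ s, κ i :=
    Finset.sum_congr rfl fun i _ => key _
  have h3 := key (∑ i ∈ s, κ i)
  rw [h1, mul_add, Finset.mul_sum] at h3
  rw [Finset.sum_add_distrib] at h2
  omega

section Core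

variable {ι : Type*} {p r d N j : ℕ}

/-- The combinatorial core. -/
theorem le_valuation [hp : Fact p.Prime] (hr : 0 < r) (hd : 0 < d) (hj : j * d < N) (s : Finset ι) (κ : ι → ℕ)
    (a : ι → Fin N → ℕ) (ha : ∀ i ∈ s, ∑ v, a i v = d) (M : ℕ) (hκ : ∑ i ∈ s, κ i = p ^ M * (p ^ r - 1))
    (he : ∀ v, p ^ r - 1 ∣ ∑ i ∈ s, κ i * a i v) :
    r * j ≤ padicValNat p (Nat.multinomial s κ) + r * (Finset.univ.filter fun v => ∑ i ∈ s, κ i * a i v = 0).card := by
  set Q := p ^ r - 1 with hQ
  have hp1 : 1 < p := hp.out.one_lt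
  have hQpos : 0 < Q := by
    have := Nat.one_lt_pow hr.ne' hp1; omega
  set Z := Finset.univ.filter fun v => ∑ i ∈ s, κ i * a i v = 0 with hZ
  -- each rotation
  have hrot : ∀ t, (j + 1 - Z.card) * Q ≤ ∑ i ∈ s, red Q (p ^ t * κ i) := by
    intro t
    set R := ∑ i ∈ s, red Q (p ^ t * κ i) with hR
    have hRmod : Q ∣ R := by
      have h : R ≡ ∑ i ∈ s, p ^ t * κ i [MOD Q] := Nat.ModEq.sum fun i _ => red_modEq _ _
      rw [← Finset.mul_sum, hκ] at h
      exact Nat.modEq_zero_iff_dvd.1 (h.trans (Nat.modEq_zero_iff_dvd.2 (Dvd.dvd.mul_left (Dvd.dvd.mul_left dvd_rfl _) _)))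
    have hvar : ∀ v ∈ Zᶜ, Q ≤ ∑ i ∈ s, red Q (p ^ t * κ i) * a i v := by
      intro v hv
      simp only [hZ, Finset.mem_compl, Finset.mem_filter, Finset.mem_univ, true_and] at hv
      have h : ∑ i ∈ s, red Q (p ^ t * κ i) * a i v ≡ ∑ i ∈ s, p ^ t * κ i * a i v [MOD Q] :=
        Nat.ModEq.sum fun i _ => (red_modEq _ _).mul_right _
      rw [show ∑ i ∈ s, p ^ t * κ i * a i v = p ^ t * ∑ i ∈ s, κ i * a i v by
        rw [Finset.mul_sum]; exact Finset.sum_congr rfl fun i _ => mul_assoc _ _ _] at h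
      have hdvd := Nat.modEq_zero_iff_dvd.1 (h.trans (Nat.modEq_zero_iff_dvd.2 ((he v).mul_left _)))
      refine Nat.le_of_dvd (Nat.pos_of_ne_zero fun h0 => hv ?_) hdvd
      rw [Finset.sum_eq_zero_iff] at h0 ⊢
      intro i hi
      have := h0 i hi
      rw [mul_eq_zero, red_eq_zero_iff] at this
      rcases this with h | h
      · rw [mul_eq_zero] at h
        rcases h with h | h
        · exact absurd h (pow_ne_zero _ (by omega))
        · simp [h]
      · simp [h]
    have h1 : (N - Z.card) * Q ≤ d * R := by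
      calc (N - Z.card) * Q = ∑ v ∈ Zᶜ, Q := by rw [Finset.sum_const, Finset.card_compl, Fintype.card_fin, smul_eq_mul]
        _ ≤ ∑ v ∈ Zᶜ, ∑ i ∈ s, red Q (p ^ t * κ i) * a i v := Finset.sum_le_sum hvar
        _ ≤ ∑ v, ∑ i ∈ s, red Q (p ^ t * κ i) * a i v := Finset.sum_le_univ_sum_of_nonneg fun _ => Nat.zero_le _
        _ = d * R := by
          rw [Finset.sum_comm, hR, Finset.mul_sum]
          exact Finset.sum_congr rfl fun i hi => by rw [← Finset.mul_sum, ha i hi, mul_comm]
    obtain ⟨m, hm⟩ := hRmod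
    rw [hm, mul_comm Q m]
    refine Nat.mul_le_mul_right Q ?_
    rw [hm, ← mul_assoc, mul_comm d Q, mul_comm (N - Z.card), mul_assoc] at h1
    have h2 := Nat.le_of_mul_le_mul_left h1 hQpos
    by_contra hlt
    push Not at hlt
    have h3 : d * (m + Z.card) ≤ d * j := Nat.mul_le_mul_left d (by omega)
    have h4 : Z.card ≤ d * Z.card := Nat.le_mul_of_pos_left _ hd
    rw [mul_add, mul_comm d j] at h3
    omega
  have hsum : r * ((j + 1 - Z.card) * Q) ≤ ∑ i ∈ s, rot p r (κ i) := by
    unfold rot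
    rw [← hQ, Finset.sum_comm]
    calc r * ((j + 1 - Z.card) * Q) = ∑ _t ∈ Finset.range r, (j + 1 - Z.card) * Q := by simp
      _ ≤ _ := Finset.sum_le_sum fun t _ => hrot t
  have hdig : (p - 1) * (r * (j + 1 - Z.card)) ≤ ∑ i ∈ s, (p.digits (κ i)).sum := by
    refine Nat.le_of_mul_le_mul_left ?_ hQpos
    calc Q * ((p - 1) * (r * (j + 1 - Z.card))) = (p - 1) * (r * ((j + 1 - Z.card) * Q)) := by ring
      _ ≤ (p - 1) * ∑ i ∈ s, rot p r (κ i) := Nat.mul_le_mul_left _ hsum
      _ = ∑ i ∈ s, (p - 1) * rot p r (κ i) := Finset.mul_sum _ _ _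
      _ ≤ ∑ i ∈ s, Q * (p.digits (κ i)).sum := Finset.sum_le_sum fun i _ => rot_le p r hp1 _
      _ = Q * _ := (Finset.mul_sum _ _ _).symm
  have hv := valuation_multinomial p s κ
  rw [hκ, digits_sum_mul_pow p hp1, hQ, digits_sum_pow_sub_one p r hp1] at hv
  have h5 : r * (j + 1 - Z.card) ≤ padicValNat p (Nat.multinomial s κ) + r := by
    refine Nat.le_of_mul_le_mul_left ?_ (by omega : 0 < p - 1)
    calc (p - 1) * (r * (j + 1 - Z.card)) ≤ ∑ i ∈ s, (p.digits (κ i)).sum := hdig
      _ = (p - 1) * (padicValNat p (Nat.multinomial s κ) + r) := by rw [← hv]; ring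
  rcases Nat.lt_or_ge j Z.card with h | h
  · exact (Nat.mul_le_mul_left r h.le).trans (Nat.le_add_left _ _)
  · have h6 : r * j + r = r * (j + 1 - Z.card) + r * Z.card := by
      rw [← mul_add, Nat.sub_add_cancel (by omega)]; ring
    omega

end Core

section Witt

variable (p : ℕ) [hp : Fact p.Prime] (k : Type u) [Field k] [Fintype k] [hk : CharP k p]

open WittVector

theorem dvd_of_constantCoeff_eq_zero {z : WittVector p k} (hz : WittVector.constantCoeff z = 0) : (p : WittVector p k) ∣ z := by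
  rw [← Ideal.mem_span_singleton, ← ker_constantCoeff]
  exact hz

theorem constantCoeff_teichmuller (x : k) : WittVector.constantCoeff (teichmuller p x) = x := teichmuller_coeff_zero p x

theorem pow_dvd_natCast {a n : ℕ} (h : ((p : WittVector p k) ^ a) ∣ (n : WittVector p k)) : p ^ a ∣ n := by
  induction a generalizing n with
  | zero => simp
  | succ a ih =>
    have hpn : p ∣ n := by
      rw [← CharP.cast_eq_zero_iff k p]
      obtain ⟨c, hc⟩ := (dvd_pow_self (p : WittVector p k) a.succ_ne_zero).trans h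
      have := congrArg WittVector.constantCoeff hc
      rw [map_natCast, map_mul, map_natCast, CharP.cast_eq_zero k p, zero_mul] at this
      exact this
    obtain ⟨m, rfl⟩ := hpn
    rw [pow_succ'] at h ⊢
    push_cast at h
    exact mul_dvd_mul_left p (ih ((mul_dvd_mul_iff_left (WittVector.p_nonzero p k)).1 h))

theorem sum_teichmuller_pow (e : ℕ) (he : ¬ Fintype.card k - 1 ∣ e) :
    ∑ x : k, teichmuller p x ^ e = 0 := by
  classical
  obtain ⟨g, hg⟩ := IsCyclic.exists_generator (α := kˣ)
  have hne : (g : k) ^ e ≠ 1 := fun h => he (by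
    have h1 : g ^ e = 1 := Units.ext (by simpa using h)
    rw [← orderOf_dvd_iff_pow_eq_one, orderOf_eq_card_of_forall_mem_zpowers hg, Nat.card_eq_fintype_card,
      Fintype.card_units] at h1
    exact h1)
  set S := ∑ x : k, teichmuller p x ^ e with hS
  have h : teichmuller p (g : k) ^ e * S = S := by
    rw [hS, Finset.mul_sum]
    refine Fintype.sum_equiv (Equiv.mulLeft₀ (g : k) g.ne_zero) _ _ fun x => ?_
    simp [mul_pow]
  have h1 : (teichmuller p (g : k) ^ e - 1) * S = 0 := by rw [sub_mul, h, one_mul, sub_self]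
  refine (mul_eq_zero.1 h1).resolve_left fun h2 => hne ?_
  have := congrArg WittVector.constantCoeff (sub_eq_zero.1 h2)
  rwa [map_pow, constantCoeff_teichmuller, map_one] at this

include hp hk in
theorem exists_prime_pow_card : ∃ r, 0 < r ∧ Fintype.card k = p ^ r := by
  obtain ⟨n, -, hn⟩ := FiniteField.card k p
  exact ⟨n, n.2, hn⟩

include hp hk in
theorem card_dvd_card_zeros [DecidableEq k] (N d j : ℕ) (hd : 0 < d) (F : MvPolynomial (Fin N) k)
    (hF : F.IsHomogeneous d) (hj : j * d < N) :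
    Fintype.card k ^ j ∣ Fintype.card {x : Fin N → k // MvPolynomial.eval x F = 0} := by
  classical
  obtain ⟨r, hr, hq⟩ := exists_prime_pow_card p k
  rw [hq, ← pow_mul]
  set P : WittVector p k := (p : WittVector p k) ^ (r * j) with hP
  set E := p ^ (r * j) * (p ^ r - 1) with hE
  let fT : (Fin N → k) → WittVector p k := fun x =>
    ∑ c ∈ F.support, teichmuller p (coeff c F) * ∏ v, teichmuller p (x v) ^ c v
  have hfT : ∀ x, WittVector.constantCoeff (fT x) = eval x F := fun x => by
    simp only [fT, map_sum, map_mul, map_prod, map_pow, constantCoeff_teichmuller, eval_eq']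
  -- the indicator
  have hind : ∀ x, P ∣ fT x ^ E - (if eval x F = 0 then 0 else 1) := by
    intro x
    have hp1 : 1 < p := hp.out.one_lt
    split_ifs with h
    · rw [sub_zero]
      have hd1 := pow_dvd_pow_of_dvd (dvd_of_constantCoeff_eq_zero p k ((hfT x).trans h)) E
      refine dvd_trans (pow_dvd_pow _ ?_) hd1
      calc r * j ≤ p ^ (r * j) := (Nat.lt_pow_self hp1).le
        _ ≤ E := Nat.le_mul_of_pos_right _ (by have := Nat.one_lt_pow hr.ne' hp1; omega)
    · have h1 : (p : WittVector p k) ∣ fT x - teichmuller p (eval x F) :=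
        dvd_of_constantCoeff_eq_zero p k (by rw [map_sub, hfT, constantCoeff_teichmuller, sub_self])
      have h2 := dvd_sub_pow_of_dvd_sub h1 (r * j)
      have h3 : (teichmuller p (eval x F)) ^ (p ^ r - 1) = 1 := by
        rw [← map_pow, ← hq, FiniteField.pow_card_sub_one_eq_one _ h, map_one]
      rw [hE, pow_mul, ← h3]
      refine dvd_trans (dvd_trans (pow_dvd_pow _ (Nat.le_succ _)) h2) ?_
      have h4 : (teichmuller p (eval x F) ^ p ^ (r * j)) ^ (p ^ r - 1) = 1 := by
        rw [← pow_mul, mul_comm, pow_mul, h3, one_pow]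
      conv_rhs => rw [h3, ← h4]
      exact sub_dvd_pow_sub_pow _ _ _
  -- the sum of the powers
  have hsum : P ∣ ∑ x, fT x ^ E := by
    simp only [fT, Finset.sum_pow_eq_sum_piAntidiag]
    rw [Finset.sum_comm]
    refine Finset.dvd_sum fun κ hκ => ?_
    rw [Finset.mem_piAntidiag] at hκ
    have hrw : ∀ x : Fin N → k, (Nat.multinomial F.support κ : WittVector p k) *
        ∏ c ∈ F.support, (teichmuller p (coeff c F) * ∏ v, teichmuller p (x v) ^ c v) ^ κ c =
        ((Nat.multinomial F.support κ : WittVector p k) * ∏ c ∈ F.support, teichmuller p (coeff c F) ^ κ c) *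
          ∏ v, teichmuller p (x v) ^ (∑ c ∈ F.support, κ c * c v) := fun x => by
      simp only [mul_pow, Finset.prod_mul_distrib, ← Finset.prod_pow, ← pow_mul, mul_assoc]
      congr 2
      rw [Finset.prod_comm]
      exact Finset.prod_congr rfl fun v _ => by rw [Finset.prod_pow_eq_pow_sum]; simp only [mul_comm]
    rw [Finset.sum_congr rfl fun x _ => hrw x, ← Finset.mul_sum,
      ← Fintype.prod_sum fun v (y : k) => teichmuller p y ^ (∑ c ∈ F.support, κ c * c v)]
    by_cases he : ∀ v, p ^ r - 1 ∣ ∑ c ∈ F.support, κ c * c v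
    swap
    · push Not at he
      obtain ⟨v, hv⟩ := he
      rw [Finset.prod_eq_zero (Finset.mem_univ v) (sum_teichmuller_pow p k _ (by rwa [hq])), mul_zero]
      exact dvd_zero _
    have hle := le_valuation (p := p) hr hd hj F.support κ (fun c v => c v) (fun c hc => by
      have := hF (mem_support_iff.1 hc)
      rw [← this, Finsupp.weight_apply, Finsupp.sum_fintype _ _ (by simp)]
      simp) (r * j) hκ.1 he
    set Z := Finset.univ.filter fun v => ∑ c ∈ F.support, κ c * c v = 0 with hZ
    refine dvd_trans (pow_dvd_pow _ hle) ?_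
    rw [pow_add]
    refine mul_dvd_mul (dvd_mul_of_dvd_left ?_ _) ?_
    · rw [← Nat.cast_pow]
      exact Nat.cast_dvd_cast pow_padicValNat_dvd
    · rw [mul_comm r, pow_mul, ← Finset.prod_mul_prod_compl Z]
      refine dvd_mul_of_dvd_left ?_ _
      rw [← pow_mul, mul_comm, pow_mul]
      conv_rhs => rw [Finset.prod_congr rfl (fun v hv => by
        rw [(Finset.mem_filter.1 hv).2]; simp [hq] : ∀ v ∈ Z,
          (∑ y : k, teichmuller p y ^ (∑ c ∈ F.support, κ c * c v)) = ((p : WittVector p k) ^ r))]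
      rw [Finset.prod_const]
  -- counting
  have hcount : P ∣ ∑ x : Fin N → k, (if eval x F = 0 then (0 : WittVector p k) else 1) := by
    have h := dvd_sub hsum (Finset.dvd_sum fun x (_ : x ∈ Finset.univ) => hind x)
    rwa [Finset.sum_sub_distrib, sub_sub_cancel] at h
  rw [Finset.sum_ite, Finset.sum_const_zero, zero_add, Finset.sum_const, nsmul_one, hP] at hcount
  have h1 := pow_dvd_natCast p k hcount
  have h2 : p ^ (r * j) ∣ Fintype.card (Fin N → k) := by
    rw [Fintype.card_fun, Fintype.card_fin, hq, ← pow_mul]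
    exact pow_dvd_pow _ (Nat.mul_le_mul_left r (by have := Nat.le_mul_of_pos_right j hd; omega))
  rw [← Finset.card_univ, ← Finset.card_filter_add_card_filter_not (fun x : Fin N → k => eval x F = 0),
    Nat.dvd_add_left h1] at h2
  rwa [Fintype.card_subtype]

end Witt

end Groth.Agent.AxDiv
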