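import Mathlib

/-!
Digit sums and rotations of exponents modulo `p ^ r - 1`.
-/

namespace Groth.Agent.AxDiv

/-- The representative in `1 .. Q` of a positive number modulo `Q`; zero stays zero. -/
def red (Q k : ℕ) : ℕ := if k = 0 then 0 else (k - 1) % Q + 1

theorem red_modEq (Q k : ℕ) : red Q k ≡ k [MOD Q] := by
  unfold red
  split_ifs with h
  · rw [h]
  · conv_rhs => rw [← Nat.sub_add_cancel (Nat.one_le_iff_ne_zero.2 h)]
    exact Nat.ModEq.add_right 1 (Nat.mod_modEq _ _)

theorem red_eq_zero_iff {Q k : ℕ} : red Q k = 0 ↔ k = 0 := by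
  unfold red; split_ifs <;> simp [*]

theorem red_le (Q k : ℕ) : red Q k ≤ k := by
  unfold red
  split_ifs
  · omega
  · have := Nat.mod_le (k - 1) Q; omega

theorem red_le_Q {Q : ℕ} (hQ : 0 < Q) (k : ℕ) : red Q k ≤ Q := by
  unfold red
  split_ifs
  · omega
  · have := Nat.mod_lt (k - 1) hQ; omega

theorem red_congr {Q a b : ℕ} (ha : a ≠ 0) (hb : b ≠ 0) (h : a ≡ b [MOD Q]) : red Q a = red Q b := by
  have h' : a - 1 ≡ b - 1 [MOD Q] := Nat.ModEq.add_right_cancel' 1 (by
    rwa [Nat.sub_add_cancel (Nat.one_le_iff_ne_zero.2 ha), Nat.sub_add_cancel (Nat.one_le_iff_ne_zero.2 hb)])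
  rw [red, if_neg ha, red, if_neg hb, h']

theorem red_of_le {Q k : ℕ} (hk : k ≤ Q) : red Q k = k := by
  unfold red
  split_ifs
  · omega
  · rw [Nat.mod_eq_of_lt (by omega)]; omega

theorem red_add_le (Q a b : ℕ) : red Q (a + b) ≤ red Q a + red Q b := by
  rcases Nat.eq_zero_or_pos a with rfl | ha
  · simp [red]
  rcases Nat.eq_zero_or_pos b with rfl | hb
  · simp [red]
  have ha' : red Q a ≠ 0 := by rw [Ne, red_eq_zero_iff]; omega
  rw [red_congr (a := a + b) (b := red Q a + red Q b) (by omega) (by omega) ((red_modEq Q a).add (red_modEq Q b)).symm]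
  exact red_le _ _

variable (p r : ℕ)

/-- Sum of the reduced exponents over a full period. -/
def rot (k : ℕ) : ℕ := ∑ t ∈ Finset.range r, red (p ^ r - 1) (p ^ t * k)

theorem rot_add_le (a b : ℕ) : rot p r (a + b) ≤ rot p r a + rot p r b := by
  rw [rot, rot, rot, ← Finset.sum_add_distrib]
  exact Finset.sum_le_sum fun t _ => by rw [mul_add]; exact red_add_le _ _ _

theorem rot_nsmul_le (c : ℕ) : rot p r c ≤ c * rot p r 1 := by
  induction c with
  | zero => simp [rot, red]
  | succ c ih => exact (rot_add_le p r c 1).trans (by rw [Nat.succ_mul]; exact Nat.add_le_add_right ih _)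

theorem red_period (hp : 0 < p) (k : ℕ) : red (p ^ r - 1) (p ^ r * k) = red (p ^ r - 1) k := by
  rcases Nat.eq_zero_or_pos k with rfl | hk
  · simp
  have h1 : 1 ≤ p ^ r := Nat.one_le_pow _ _ hp
  refine red_congr (by positivity) hk.ne' ?_
  conv_lhs => rw [← Nat.sub_add_cancel h1, Nat.add_mul, one_mul]
  exact Nat.modEq_iff_dvd.2 ⟨-(k : ℤ), by push_cast [Nat.sub_add_cancel h1]; ring⟩

theorem rot_mul (hp : 0 < p) (k : ℕ) : rot p r (p * k) = rot p r k := by
  have h : ∀ t, red (p ^ r - 1) (p ^ t * (p * k)) = red (p ^ r - 1) (p ^ (t + 1) * k) := fun t => by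
    rw [pow_succ, mul_assoc]
  rw [rot, rot, Finset.sum_congr rfl fun t _ => h t]
  have h2 := Finset.sum_range_succ (fun t => red (p ^ r - 1) (p ^ t * k)) r
  rw [Finset.sum_range_succ', red_period p r hp, pow_zero, one_mul] at h2
  omega

theorem rot_one (hp : 1 < p) : (p - 1) * rot p r 1 = p ^ r - 1 := by
  have h : rot p r 1 = ∑ t ∈ Finset.range r, p ^ t := Finset.sum_congr rfl fun t ht => by
    rw [mul_one, red_of_le]
    have := Nat.pow_lt_pow_right hp (Finset.mem_range.1 ht)
    omega
  rw [h, mul_comm]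
  have := geom_sum_mul_add (p - 1) r
  rw [Nat.sub_add_cancel hp.le] at this
  omega

theorem digits_sum_eq (hp : 1 < p) (k : ℕ) :
    (p.digits k).sum = k % p + (p.digits (k / p)).sum := by
  rcases Nat.eq_zero_or_pos k with rfl | hk
  · simp
  rw [Nat.digits_def' hp hk, List.sum_cons]

theorem rot_le (hp : 1 < p) (k : ℕ) : (p - 1) * rot p r k ≤ (p ^ r - 1) * (p.digits k).sum := by
  induction k using Nat.strong_induction_on with
  | _ k ih =>
    rcases Nat.eq_zero_or_pos k with rfl | hk
    · simp [rot, red]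
    have h : rot p r k ≤ k % p * rot p r 1 + rot p r (k / p) := by
      have := rot_add_le p r (k % p) (p * (k / p))
      rw [Nat.mod_add_div, rot_mul p r (by omega)] at this
      exact this.trans (Nat.add_le_add_right (rot_nsmul_le p r _) _)
    rw [digits_sum_eq p hp k, mul_add]
    refine (Nat.mul_le_mul_left _ h).trans ?_
    rw [mul_add, mul_left_comm, rot_one p r hp, mul_comm (k % p)]
    exact Nat.add_le_add_left (ih _ (Nat.div_lt_self hk hp)) _

theorem digits_sum_pow_sub_one (hp : 1 < p) : (p.digits (p ^ r - 1)).sum = r * (p - 1) := by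
  induction r with
  | zero => simp
  | succ r ih =>
    have h1 : 1 ≤ p ^ r := Nat.one_le_pow _ _ (by omega)
    have hs : p ^ (r + 1) - 1 = (p - 1) + p * (p ^ r - 1) := by
      rw [pow_succ', Nat.mul_sub, mul_one]
      have : p ≤ p * p ^ r := Nat.le_mul_of_pos_right _ (by omega)
      omega
    rw [digits_sum_eq p hp, hs, Nat.add_mul_mod_self_left, Nat.mod_eq_of_lt (by omega),
      Nat.add_mul_div_left _ _ (by omega : 0 < p), Nat.div_eq_of_lt (by omega), zero_add, ih]
    ring

theorem digits_sum_mul_pow (hp : 1 < p) (m k : ℕ) : (p.digits (p ^ m * k)).sum = (p.digits k).sum := by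
  rcases Nat.eq_zero_or_pos k with rfl | hk
  · simp
  rw [Nat.digits_base_pow_mul hp hk]
  simp

end Groth.Agent.AxDiv
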